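/-
Fi23 as a group on its 31671 transpositions.
Main definitions: `model23`, `ctx23`.
-/
import Cfsg.Agent.Lib.Fi23Trans.Transpositions
import Cfsg.Agent.Lib.FischerAut.Tree
import Cfsg.Agent.Lib.FischerAut.Out

set_option autoImplicit false
set_option maxRecDepth 10000

namespace Cfsg.Agent.FischerExist

open Cfsg.Agent.CosetEnum Cfsg.Agent.CosetEnum.Data
open Cfsg.Agent.Fi23Trans (rho pt0 z0 Hs mem_Hs_iff centralizer_z0 dword)

theorem exists_map_pt23 (i : Fin fi23h.n) : ∃ g, rho g pt0 = i := by
  have T := S1689.table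
  obtain ⟨ext, hsrc, hext⟩ := T.src
  obtain ⟨e, he0, he⟩ := Setup.exists_equiv T.gens T.letters T.check T.rels T.perm T.subs hsrc Hs rfl hext
  obtain ⟨g, hg⟩ := QuotientGroup.mk_surjective (e i)
  refine ⟨g, e.injective ?_⟩
  rw [← he g pt0]
  show g • e pt0 = e i
  rw [show e pt0 = ((1 : fi23Setup.G) : fi23Setup.G ⧸ Hs) from he0, ← hg]
  show ((g * 1 : fi23Setup.G) : fi23Setup.G ⧸ Hs) = _
  rw [mul_one]

/-- The transpositions of Fi23. -/
noncomputable def model23 : FischerAut.Model fi23Setup.G fi23h.n :=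
  FischerAut.Model.ofBase rho pt0 z0 exists_map_pt23 (fun g => by
    rw [← mem_Hs_iff, ← centralizer_z0, Subgroup.mem_centralizer_singleton_iff])

theorem model23_d0 : model23.d pt0 = z0 := FischerAut.Model.ofBase_d _ _ _ _ _

/-- The point of a word. -/
noncomputable def pt23 (u : List ℕ) : Fin fi23h.n := rho (ev fi23Setup.el u) pt0

/-- Letters only. -/
noncomputable def okw23 (u : List ℕ) : Bool := u.all fun a => Nat.blt a fi23h.k

/-- The transposition of a word as a packed permutation. -/
noncomputable def V23 (u : List ℕ) : ℕ := fi23h.trace (dword u)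

/-- The point of a word as a number. -/
noncomputable def P23 (u : List ℕ) : ℕ := lane 16 (fi23h.trace u) 0

theorem rho_word23 {u : List ℕ} (hlt : ∀ a ∈ u, a < fi23h.k) (i : Fin fi23h.n) :
    (rho (ev fi23Setup.el u) i : ℕ) = lane 16 (fi23h.trace u) i := by
  rw [Fi23Trans.lane_trace hlt, Fi23Trans.rho_ev u hlt, Setup.ev_perm _ _ hlt]

theorem dword_lt23 {u : List ℕ} (hlt : ∀ a ∈ u, a < fi23h.k) : ∀ a ∈ dword u, a < fi23h.k := by
  simp only [dword, List.mem_append, List.mem_reverse]
  rintro a ((ha | ha) | ha)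
  · exact hlt a ha
  · exact Fi23Trans.zWord_lt a ha
  · exact hlt a ha

/-- The interpretation of words. -/
noncomputable def ctx23 : FischerAut.Ctx model23 16 V23 P23 okw23 where
  pt := pt23
  hP u h := by
    have hlt : ∀ a ∈ u, a < fi23h.k := by simpa [okw23, List.all_eq_true] using h
    exact (rho_word23 hlt pt0).symm
  hV u h i := by
    have hlt : ∀ a ∈ u, a < fi23h.k := by simpa [okw23, List.all_eq_true] using h
    rw [V23, ← rho_word23 (dword_lt23 hlt) i]
    show _ = (rho (model23.d (rho (ev fi23Setup.el u) pt0)) i : ℕ)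
    rw [show model23.d (rho (ev fi23Setup.el u) pt0) = _ from model23.conj _ pt0, model23_d0, dword,
      ev_append, ev_append, Fi23Trans.ev_inv u hlt, z0, mul_assoc]

end Cfsg.Agent.FischerExist
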