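/-
Certified facts about the common neighbours in Fi23.
Main results: `m23_refl`, `m23_gens`, `m23_common`, `m23_wb`, `m23_u0`.
-/
import Cfsg.Agent.Lib.FischerExist.ModelFi23
import Cfsg.Agent.Lib.FischerExist.DataM23

set_option autoImplicit false
set_option maxRecDepth 100000
set_option Elab.async false

namespace Cfsg.Agent.FischerExist

theorem m23_refl : m23Refl.ok = true := by decide +kernel

theorem m23_gen0 : m23Data.genOK 16 15 V23 P23 okw23 0 = true := by decide +kernel

theorem m23_gen1 : m23Data.genOK 16 15 V23 P23 okw23 1 = true := by decide +kernel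

theorem m23_gen2 : m23Data.genOK 16 15 V23 P23 okw23 2 = true := by decide +kernel

theorem m23_gen3 : m23Data.genOK 16 15 V23 P23 okw23 3 = true := by decide +kernel

theorem m23_gen4 : m23Data.genOK 16 15 V23 P23 okw23 4 = true := by decide +kernel

theorem m23_gen5 : m23Data.genOK 16 15 V23 P23 okw23 5 = true := by decide +kernel

theorem m23_gen6 : m23Data.genOK 16 15 V23 P23 okw23 6 = true := by decide +kernel

theorem m23_gens : m23Data.gensOK 16 15 V23 P23 okw23 = true := by
  refine List.all_eq_true.2 fun i hi => ?_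
  rw [List.mem_range, show m23Data.R.k = 7 from rfl] at hi
  interval_cases i
  exacts [m23_gen0, m23_gen1, m23_gen2, m23_gen3, m23_gen4, m23_gen5, m23_gen6]

theorem m23_common : m23Data.commonOK 16 15 CosetEnum.fi23h.n V23 P23 okw23 = true := by
  decide +kernel

theorem m23_wb : (Nat.beq (P23 m23Data.wb) CosetEnum.fi23h_orb0.root &&
    Nat.beq (P23 Fi23Trans.rep1) CosetEnum.fi23h_orb1.root) = true := by
  decide +kernel

/-- A word whose transposition is the first letter. -/
def u0 : List ℕ :=
  [7, 6, 5, 4, 3, 2, 1, 0, 8, 3, 2, 4, 3, 5, 4, 6, 5, 7, 6, 8, 3, 2, 4, 3, 5, 4, 8, 3, 2, 1]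

theorem m23_u0 : (okw23 u0 && (!Nat.beq (P23 u0) 0 && (Nat.beq (Fi23Trans.lt9 0) 0 &&
    Nat.beq (CosetEnum.fi23h.trace (Fi23Trans.dword u0)) (CosetEnum.fi23h.trace [0])))) = true := by
  decide +kernel

end Cfsg.Agent.FischerExist
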