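/-
Certified facts about the common neighbours in Fi22.
Main results: `m22_refl`, `m22_gens`, `m22_common`.
-/
import Cfsg.Agent.Lib.Fi22Aut.Basic
import Cfsg.Agent.Lib.FischerExist.DataM22

set_option autoImplicit false
set_option maxRecDepth 100000

namespace Cfsg.Agent.FischerExist

theorem m22_refl : m22Refl.ok = true := by decide +kernel

theorem m22_gens : m22Data.gensOK 13 12 Fi22Aut.V Fi22Aut.P Fi22Aut.okw = true := by decide +kernel

theorem m22_common : m22Data.commonOK 13 12 CosetEnum.fi22h.n Fi22Aut.V Fi22Aut.P Fi22Aut.okw = true := by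
  decide +kernel

end Cfsg.Agent.FischerExist
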