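/-
The members commuting with one generate its centraliser when that is a non-split double cover of a simple group.
Main results: `loc_eq_centralizer`, `center_eq_bot_of_simple`.
-/
import Cfsg.Agent.Lib.ThreeTrans.Local

set_option autoImplicit false

namespace Cfsg.Agent.FischerExist

open Cfsg.Agent.ThreeTrans (adj Loc)

variable {G : Type*} [Group G]

/-- A simple group with two non-commuting elements has trivial centre. -/
theorem center_eq_bot_of_simple [IsSimpleGroup G] {x y : G} (h : ¬ Commute x y) : Subgroup.center G = ⊥ :=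
  (inferInstance : (Subgroup.center G).Normal).eq_bot_or_eq_top.resolve_right fun ht =>
    h (Subgroup.mem_center_iff.1 (show y ∈ Subgroup.center G by rw [ht]; exact Subgroup.mem_top y) x)

/-- The local group is the whole centraliser. -/
theorem loc_eq_centralizer {K : Type*} [Group K] [IsSimpleGroup K] {D : Set G}
    (hD : Cfsg.IsThreeTranspositionGroup D) {z y : G} (hz : z ∈ D) (hy : y ∈ adj D z)
    (hcov : Cfsg.IsNonsplitDoubleCover ↥(Subgroup.centralizer ({z} : Set G)) K) :
    Loc D z = Subgroup.centralizer ({z} : Set G) := by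
  obtain ⟨hc2, ⟨e⟩, hns⟩ := hcov
  set C := Subgroup.centralizer ({z} : Set G) with hC
  have hzz : z ≠ 1 := fun h => by
    have := hD.1.1 z hz
    rw [h, orderOf_one] at this
    exact absurd this (by norm_num)
  have hle : Loc D z ≤ C := (Subgroup.closure_le _).2 fun x hx =>
    Subgroup.mem_centralizer_singleton_iff.2 hx.2.2.eq.symm
  set N := (Loc D z).subgroupOf C with hN
  have hnorm : N.Normal := ⟨fun n hn c => by
    have hcz : (c : G) * z * (c : G)⁻¹ = z := by
      rw [Subgroup.mem_centralizer_singleton_iff.1 c.2, mul_inv_cancel_right]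
    have key : ∀ x ∈ Loc D z, (c : G) * x * (c : G)⁻¹ ∈ Loc D z := by
      intro x hx
      induction hx using Subgroup.closure_induction with
      | mem x hx =>
        refine Subgroup.subset_closure ⟨hD.2.1 _ _ hx.1, fun h => hx.2.1 ?_, ?_⟩
        · exact mul_left_cancel (mul_right_cancel (h.trans hcz.symm))
        · have := hx.2.2.map (MulAut.conj (c : G)).toMonoidHom
          rwa [show (MulAut.conj (c : G)).toMonoidHom z = z from hcz] at this
      | one => simpa using one_mem (Loc D z)
      | mul u v _ _ hu hv =>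
        rw [show (c : G) * (u * v) * (c : G)⁻¹ =
          ((c : G) * u * (c : G)⁻¹) * ((c : G) * v * (c : G)⁻¹) by group]
        exact mul_mem hu hv
      | inv u _ hu =>
        rw [show (c : G) * u⁻¹ * (c : G)⁻¹ = ((c : G) * u * (c : G)⁻¹)⁻¹ by group]
        exact inv_mem hu
    exact key n hn⟩
  have hzC : z ∈ C := Subgroup.mem_centralizer_singleton_iff.2 rfl
  set w : C := ⟨z, hzC⟩ with hw
  have hwZ : w ∈ Subgroup.center C := Subgroup.mem_center_iff.2 fun g =>
    Subtype.ext (Subgroup.mem_centralizer_singleton_iff.1 g.2)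
  have hw1 : w ≠ 1 := fun h => hzz (congrArg Subtype.val h)
  have hZ : ∀ u ∈ Subgroup.center C, u ≠ 1 → u = w := by
    intro u hu h1
    by_contra hne
    obtain ⟨a, b, -, huniv⟩ := Nat.card_eq_two_iff.1 hc2
    have mem : ∀ x : Subgroup.center C, x = a ∨ x = b := fun x => by
      have : x ∈ ({a, b} : Set (Subgroup.center C)) := huniv ▸ Set.mem_univ x
      exact this
    rcases mem 1 with h | h <;> rcases mem ⟨w, hwZ⟩ with h' | h' <;> rcases mem ⟨u, hu⟩ with h'' | h''
    all_goals first
      | exact hw1 (congrArg Subtype.val (h'.trans h.symm))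
      | exact h1 (congrArg Subtype.val (h''.trans h.symm))
      | exact hne (congrArg Subtype.val (h''.trans h'.symm))
  have hyN : (⟨y, hle (Subgroup.subset_closure hy)⟩ : C) ∈ N := Subgroup.subset_closure hy
  have hsurj := QuotientGroup.mk'_surjective (Subgroup.center C)
  have : IsSimpleGroup (C ⧸ Subgroup.center C) := e.isSimpleGroup
  rcases (hnorm.map (QuotientGroup.mk' (Subgroup.center C)) hsurj).eq_bot_or_eq_top with h | h
  · exfalso
    have hm := Subgroup.mem_map_of_mem (QuotientGroup.mk' (Subgroup.center C)) hyN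
    rw [h, Subgroup.mem_bot] at hm
    have hyZ := (QuotientGroup.eq_one_iff _).1 hm
    rcases eq_or_ne (⟨y, hle (Subgroup.subset_closure hy)⟩ : C) 1 with h1 | h1
    · have := hD.1.1 y hy.1
      rw [show y = 1 from congrArg Subtype.val h1, orderOf_one] at this
      exact absurd this (by norm_num)
    · exact hy.2.1 (congrArg Subtype.val (hZ _ hyZ h1))
  · refine le_antisymm hle fun x hx => ?_
    have hsup : ∀ c : C, c ∈ N ∨ c * w ∈ N := by
      intro c
      obtain ⟨n, hn, hnc⟩ : QuotientGroup.mk' (Subgroup.center C) c ∈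
          N.map (QuotientGroup.mk' (Subgroup.center C)) := h ▸ Subgroup.mem_top _
      have hq : c⁻¹ * n ∈ Subgroup.center C := QuotientGroup.eq.1 hnc.symm
      rcases eq_or_ne (c⁻¹ * n) 1 with h1 | h1
      · left; rwa [inv_mul_eq_one.1 h1]
      · right; rwa [← hZ _ hq h1, mul_inv_cancel_left]
    by_cases hwN : w ∈ N
    · rcases hsup ⟨x, hx⟩ with h1 | h1
      · exact h1
      · have := mul_mem h1 (inv_mem hwN)
        rwa [mul_inv_cancel_right] at this
    · exfalso
      refine hns N (Subgroup.isComplement'_of_disjoint_and_mul_eq_univ ?_ ?_)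
      · rw [Subgroup.disjoint_def]
        intro u hu hu'
        by_contra h1
        exact hwN (hZ u hu h1 ▸ hu')
      · refine Set.eq_univ_of_forall fun c => ?_
        rcases hsup c with h1 | h1
        · exact ⟨1, one_mem _, c, h1, one_mul c⟩
        · refine ⟨w⁻¹, inv_mem hwZ, c * w, h1, ?_⟩
          show w⁻¹ * (c * w) = c
          rw [← mul_assoc, ← Subgroup.mem_center_iff.1 (inv_mem hwZ) c, inv_mul_cancel_right]

end Cfsg.Agent.FischerExist
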