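/-
The presented Fi22 with its transpositions is of type M(22).
Main results: `center22`, `type22`, `prim22`.
-/
import Cfsg.Agent.Lib.FischerExist.ChecksM22
import Cfsg.Agent.Lib.FischerExist.Local
import Cfsg.Agent.Lib.FischerM23.Quot

set_option autoImplicit false
set_option maxRecDepth 10000

namespace Cfsg.Agent.FischerExist

open Cfsg.Agent.CosetEnum Cfsg.Agent.ThreeTrans
open Cfsg.Agent.Fi22U62 (classD z0 pt0)
open Cfsg.Agent.Fi22Aut (model model_d0)

theorem range22 : Set.range model.d = classD := by
  rw [PData.range_d model pt0, model_d0]; rfl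

theorem data22 : ∃ c, FischerM23.Data22At classD z0 c ∧ (common classD z0 c).Nonempty := by
  obtain ⟨hnc, hrefl⟩ := PData.projRefl Fi22Aut.ctx m22_refl m22_gens m22_common
  have ha : model.d (Fi22Aut.ctx.pt []) = z0 := by
    rw [← model_d0]
    exact congrArg model.d (by show Fi22Aut.pt [] = pt0; simp [Fi22Aut.pt, Data.ev])
  rw [ha, range22] at hrefl
  rw [ha] at hnc
  generalize hc : model.d (Fi22Aut.ctx.pt m22Data.wb) = c at hrefl hnc
  have hcD : c ∈ classD := hc ▸ range22 ▸ ⟨_, rfl⟩
  have hne : (common classD z0 c).Nonempty := by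
    rw [Set.nonempty_iff_ne_empty]
    intro he
    have hbot : Subgroup.closure (common classD z0 c) = ⊥ := by rw [he, Subgroup.closure_empty]
    have h1 : Nat.card (↥(Subgroup.closure (common classD z0 c)) ⧸
        Subgroup.center ↥(Subgroup.closure (common classD z0 c))) ∣ 1 := by
      refine (Subgroup.card_quotient_dvd_card _).trans ?_
      rw [hbot, Subgroup.card_bot]
    have hR : Cfsg.IsProjReflectionGroupModThree (↥(Subgroup.closure (common classD z0 c)) ⧸
        Subgroup.center ↥(Subgroup.closure (common classD z0 c))) 6 (2 ^ 6) 1 := hrefl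
    rcases FischerM22.proj_refl_dvd one_ne_zero hR with h | h <;>
      exact absurd (Nat.le_of_dvd one_pos (h.trans h1)) (by norm_num)
  obtain ⟨y, hy⟩ := id hne
  have hz : z0 ∈ classD := mem_conjugatesOf_self
  have hs : IsSimpleGroup (Cfsg.PSU 6 Unitary.GF4 2) :=
    S0283.result (q := 2) (by rw [Unitary.GF4.card]) 6 (by norm_num) (by norm_num)
  have hcov := Fi22U62.cover_centralizer hz
  have hloc := loc_eq_centralizer (group_of_class Fi22U62.isThreeTranspositionClass) hz hy.1 hcov
  obtain ⟨e⟩ := hcov.2.1
  let e' := QuotientGroup.congr (Subgroup.center ↥(Loc classD z0)) _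
    (MulEquiv.subgroupCongr hloc) (map_center _)
  refine ⟨c, ⟨hz, hcD, hnc, ⟨Unitary.GF4, inferInstance, inferInstance, Unitary.GF4.card, ⟨e'.trans e⟩⟩,
    1, one_ne_zero, ?_⟩, hne⟩
  have h64 : ((2 : ZMod 3) ^ 6) = 1 := by decide
  rw [← h64]
  exact hrefl

theorem center22 : Subgroup.center fi22Setup.G = ⊥ := by
  obtain ⟨c, h, -⟩ := data22
  have : IsSimpleGroup fi22Setup.G := S1696.main.1
  exact center_eq_bot_of_simple h.2.2.1

/-- Fi22 is of type M(22). -/
theorem type22 : Cfsg.IsOfTypeM22 fi22Setup.G classD := by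
  obtain ⟨c, h, -⟩ := data22
  exact FischerM23.type22_of_data center22 h

/-- Fi22 acts primitively on its transpositions. -/
theorem prim22 : Cfsg.IsPrimitiveUnderConj classD := by
  obtain ⟨c, h, -⟩ := data22
  have := Fi22U62.fi22_finite
  have hcc := FischerM23.centralCores_of_local_simple Fi22U62.isThreeTranspositionClass h.1
    (FischerM23.simple_of_data h)
  exact primitive_of_connected Fi22U62.isThreeTranspositionClass
    ⟨_, h.1, _, h.2.1, fun e => h.2.2.1 (e ▸ Commute.refl _)⟩ hcc
    (FischerM23.connected_of_data Fi22U62.isThreeTranspositionClass hcc center22 h)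

end Cfsg.Agent.FischerExist
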