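/-
The presented Fi23 with its transpositions is of type M(23).
Main results: `center23`, `type23`, `prim23`.
-/
import Cfsg.Agent.Lib.FischerExist.ChecksM23
import Cfsg.Agent.Lib.FischerExist.M22
import Cfsg.Agent.Lib.FischerM24.Transport

set_option autoImplicit false
set_option maxRecDepth 10000

namespace Cfsg.Agent.FischerExist

open Cfsg.Agent.CosetEnum Cfsg.Agent.ThreeTrans
open Cfsg.Agent.Fi23Trans (classD z0 pt0 rho Hs)
open Cfsg.Agent.FischerM23 (QL QSet)

theorem range23 : Set.range model23.d = classD := by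
  rw [PData.range_d model23 pt0, model23_d0]; rfl

theorem pt23_nil : ctx23.pt [] = pt0 := by
  show pt23 [] = pt0
  simp [pt23, Data.ev]

/-- The second base member. -/
noncomputable def c23 : fi23Setup.G := model23.d (ctx23.pt m23Data.wb)

theorem proj23 : ¬ Commute z0 c23 ∧ Cfsg.IsProjReflectionGroupModThree
    (↥(Subgroup.closure (common classD z0 c23)) ⧸ Subgroup.center ↥(Subgroup.closure (common classD z0 c23)))
    7 (-1) 1 := by
  obtain ⟨h1, h2⟩ := PData.projRefl ctx23 m23_refl m23_gens m23_common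
  rw [pt23_nil, model23_d0] at h1
  rw [pt23_nil, model23_d0, range23] at h2
  refine ⟨h1, ?_⟩
  have h128 : ((2 : ZMod 3) ^ 7) = -1 := by decide
  rw [← h128]
  exact h2

theorem c23_mem : c23 ∈ classD := range23 ▸ ⟨_, rfl⟩

/-- The transposition generating the first factor. -/
noncomputable def y23 : fi23Setup.G := Fi23Trans.hgen 0

theorem y23_adj : y23 ∈ adj classD z0 := by
  have h := m23_u0
  simp only [Bool.and_eq_true, Bool.not_eq_true'] at h
  obtain ⟨hok, hne, hlt, htr⟩ := h
  have hu : ∀ a ∈ u0, a < fi23h.k := by simpa [okw23, List.all_eq_true] using hok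
  have e : model23.d (pt23 u0) = y23 := by
    rw [pt23, show model23.d (rho (Data.ev fi23Setup.el u0) pt0) = _ from model23.conj _ pt0, model23_d0,
      y23, Fi23Trans.hgen, Nat.eq_of_beq_eq_true hlt]
    have h2 := Fi23Trans.eq_of_trace (dword_lt23 hu) (v := [0]) (by simp; decide +kernel)
      (Nat.eq_of_beq_eq_true htr)
    rw [Fi23Trans.dword, Data.ev_append, Data.ev_append, Fi23Trans.ev_inv u0 hu,
      show Data.ev fi23Setup.el [0] = 1 * fi23Setup.el 0 from rfl, one_mul] at h2
    rw [← h2, z0, mul_assoc]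
  refine ⟨range23 ▸ ⟨_, e⟩, fun hy => ?_, ?_⟩
  · rw [← e, ← model23_d0] at hy
    rw [ctx23.hP u0 hok, show ctx23.pt u0 = pt0 from model23.inj hy] at hne
    exact Bool.false_ne_true (hne.symm.trans (Nat.beq_refl _))
  · exact (Fi23Trans.z0_comm (Fi23Trans.hgen_mem (by norm_num))).symm

/-- Members away from `z0` are conjugate under the centraliser to one of two. -/
theorem cases23 {x : fi23Setup.G} (hx : x ∈ classD) :
    x = z0 ∨ ∃ h ∈ Hs, x = h * c23 * h⁻¹ ∨ x = h * model23.d (ctx23.pt Fi23Trans.rep1) * h⁻¹ := by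
  rw [← range23] at hx
  obtain ⟨i, rfl⟩ := hx
  have hc := Fi23Trans.cover_points
  simp only [force_eq, List.all_eq_true] at hc
  have hc := hc _ (List.mem_range.mpr i.2)
  simp only [Bool.or_eq_true] at hc
  have h0 := fi23h_orb0_check
  have h1 := fi23h_orb1_check
  simp only [Bool.and_eq_true] at h0 h1
  have hw := m23_wb
  simp only [Bool.and_eq_true] at hw
  rcases hc with hc | hc | hc
  · left
    rw [show i = pt0 from Fin.ext (Nat.eq_of_beq_eq_true hc), model23_d0]
  all_goals right
  · obtain ⟨h, hh, hr⟩ := Fi23Trans.orbit_rep (O := fi23h_orb0) h0.1 (by decide +kernel)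
      ⟨i.2, Nat.eq_of_beq_eq_true hc⟩
    refine ⟨h, hh, Or.inl ?_⟩
    rw [c23, ← model23.conj]
    refine congrArg model23.d (Fin.ext ?_)
    refine (hr _ ?_).symm
    rw [← ctx23.hP _ (by decide +kernel)]
    exact Nat.eq_of_beq_eq_true hw.1
  · obtain ⟨h, hh, hr⟩ := Fi23Trans.orbit_rep (O := fi23h_orb1) h1.1 (by decide +kernel)
      ⟨i.2, Nat.eq_of_beq_eq_true hc⟩
    refine ⟨h, hh, Or.inr ?_⟩
    rw [← model23.conj]
    refine congrArg model23.d (Fin.ext ?_)
    refine (hr _ ?_).symm
    rw [← ctx23.hP _ (by decide +kernel)]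
    exact Nat.eq_of_beq_eq_true hw.2

/-- Neighbours of `z0` are conjugate under the centraliser to `y23`. -/
theorem adj23 {x : fi23Setup.G} (hx : x ∈ adj classD z0) : ∃ h ∈ Hs, x = h * y23 * h⁻¹ := by
  have key : ∀ {x}, x ∈ adj classD z0 → ∃ h ∈ Hs, x = h * model23.d (ctx23.pt Fi23Trans.rep1) * h⁻¹ := by
    rintro x ⟨hxD, hne, hc⟩
    obtain h | ⟨h, hh, h1 | h1⟩ := cases23 hxD
    · exact absurd h hne
    · exfalso
      refine proj23.1 ?_
      have := hc.map (MulAut.conj h⁻¹).toMonoidHom
      have ez : (MulAut.conj h⁻¹).toMonoidHom z0 = z0 := by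
        show h⁻¹ * z0 * h⁻¹⁻¹ = z0
        rw [inv_inv, mul_assoc, ← Fi23Trans.z0_comm hh, inv_mul_cancel_left]
      have ex : (MulAut.conj h⁻¹).toMonoidHom x = c23 := by
        show h⁻¹ * x * h⁻¹⁻¹ = c23
        rw [h1]; group
      rwa [ez, ex] at this
    · exact ⟨h, hh, h1⟩
  obtain ⟨h, hh, e⟩ := key hx
  obtain ⟨k, hk, e'⟩ := key y23_adj
  exact ⟨h * k⁻¹, mul_mem hh (inv_mem hk), by rw [e, e']; group⟩

theorem simple22 : IsSimpleGroup fi22Setup.G := S1696.main.1

theorem loc23 : Loc classD z0 = Hs := by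
  have := simple22
  rw [← Fi23Trans.centralizer_z0]
  exact loc_eq_centralizer (group_of_class Fi23Trans.isThreeTranspositionClass) mem_conjugatesOf_self y23_adj
    (Fi23Trans.cover_centralizer mem_conjugatesOf_self)

/-- The map of the centraliser onto Fi22. -/
noncomputable def f22 : Hs →* fi22Setup.G :=
  Fi23Trans.fi22EquivRange.symm.toMonoidHom.comp
    ((MulEquiv.subgroupCongr Fi23Trans.range_eq).toMonoidHom.comp Fi23Trans.phi.rangeRestrict)

theorem f22_surjective : Function.Surjective f22 :=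
  Fi23Trans.fi22EquivRange.symm.surjective.comp
    ((MulEquiv.subgroupCongr Fi23Trans.range_eq).surjective.comp Fi23Trans.phi.rangeRestrict_surjective)

theorem f22_ker : f22.ker = Subgroup.center Hs := by
  rw [Fi23Trans.center_eq_ker]
  ext x
  rw [MonoidHom.mem_ker, MonoidHom.mem_ker, f22]
  show Fi23Trans.fi22EquivRange.symm _ = 1 ↔ _
  rw [MulEquiv.map_eq_one_iff]
  exact Subtype.ext_iff

theorem f22_y : f22 ⟨y23, Fi23Trans.hgen_mem (by norm_num)⟩ = Fi22U62.z0 := by
  apply Fi23Trans.fi22EquivRange.injective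
  refine (Fi23Trans.fi22EquivRange.apply_symm_apply _).trans (Subtype.ext ?_)
  exact (Fi23Trans.phi_gen (by norm_num)).trans (Setup.hom_el _ _ _ _ (by decide +kernel)).symm

theorem type22_local : Cfsg.IsOfTypeM22 (QL classD z0) (QSet classD z0) := by
  let g : ↥(Loc classD z0) →* fi22Setup.G := f22.comp (MulEquiv.subgroupCongr loc23).toMonoidHom
  have hg : Function.Surjective g := f22_surjective.comp (MulEquiv.subgroupCongr loc23).surjective
  have hker : g.ker = Subgroup.center ↥(Loc classD z0) := by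
    rw [show g.ker = (f22.ker).comap (MulEquiv.subgroupCongr loc23).toMonoidHom from
      (MonoidHom.comap_ker f22 _).symm, f22_ker, ← map_center (MulEquiv.subgroupCongr loc23)]
    exact Subgroup.comap_map_eq_self_of_injective (MulEquiv.subgroupCongr loc23).injective _
  let e : QL classD z0 ≃* fi22Setup.G :=
    (QuotientGroup.quotientMulEquivOfEq hker.symm).trans (QuotientGroup.quotientKerEquivOfSurjective g hg)
  have hgval : ∀ (s : ↥(Loc classD z0)) (hs : (s : fi23Setup.G) ∈ Hs), g s = f22 ⟨s, hs⟩ := fun s hs => rfl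
  have himg : e.symm '' Fi22U62.classD = QSet classD z0 := by
    ext q
    constructor
    · rintro ⟨w, hw, rfl⟩
      obtain ⟨k, hk⟩ := isConj_iff.1 (show IsConj Fi22U62.z0 w from hw)
      obtain ⟨⟨h, hh⟩, rfl⟩ := f22_surjective k
      rw [← f22_y, ← map_mul, ← map_inv, ← map_mul] at hk
      have hm : h * y23 * h⁻¹ ∈ adj classD z0 := by
        have ez : h * z0 * h⁻¹ = z0 := by rw [Fi23Trans.z0_comm hh, mul_inv_cancel_right]
        have := (conj_adj (group_of_class Fi23Trans.isThreeTranspositionClass).2.1 h z0 (h * y23 * h⁻¹)).2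
          (by simpa [mul_assoc] using y23_adj)
        rwa [ez] at this
      refine ⟨⟨_, Subgroup.subset_closure hm⟩, hm, ?_⟩
      apply e.injective
      rw [e.apply_symm_apply, ← hk]
      rfl
    · rintro ⟨s, hs, rfl⟩
      obtain ⟨h, hh, hsh⟩ := adj23 (show (s : fi23Setup.G) ∈ adj classD z0 from hs)
      refine ⟨f22 ⟨h, hh⟩ * Fi22U62.z0 * (f22 ⟨h, hh⟩)⁻¹, isConj_iff.2 ⟨_, rfl⟩, ?_⟩
      apply e.injective
      rw [e.apply_symm_apply, ← f22_y, ← map_mul, ← map_inv, ← map_mul]
      show _ = g s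
      rw [hgval s (loc23 ▸ s.2)]
      exact congrArg f22 (Subtype.ext hsh.symm)
  rw [← himg]
  exact FischerM24.type22_map e.symm (fun k w hw => by
    obtain ⟨l, hl⟩ := isConj_iff.1 (show IsConj Fi22U62.z0 w from hw)
    exact isConj_iff.2 ⟨k * l, by rw [← hl]; group⟩) type22

theorem data23 : FischerM24.Data23At classD z0 c23 :=
  ⟨mem_conjugatesOf_self, c23_mem, proj23.1, type22_local, 1, one_ne_zero, proj23.2⟩

theorem center23 : Subgroup.center fi23Setup.G = ⊥ := by
  have : IsSimpleGroup fi23Setup.G := S1697.main.1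
  exact center_eq_bot_of_simple proj23.1

/-- Fi23 is of type M(23). -/
theorem type23 : Cfsg.IsOfTypeM23 fi23Setup.G classD := FischerM24.type23_of_data center23 data23

theorem connected23 : ConnectedComm classD := by
  have hg := group_of_class Fi23Trans.isThreeTranspositionClass
  obtain ⟨y, hya, hyc⟩ : (common classD z0 c23).Nonempty := by
    obtain ⟨-, -, -, -, c₃, hc3, hR⟩ := data23
    rw [Set.nonempty_iff_ne_empty]
    intro he
    have hbot : Subgroup.closure (common classD z0 c23) = ⊥ := by rw [he, Subgroup.closure_empty]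
    have h1 : Nat.card (↥(Subgroup.closure (common classD z0 c23)) ⧸
        Subgroup.center ↥(Subgroup.closure (common classD z0 c23))) ∣ 1 := by
      refine (Subgroup.card_quotient_dvd_card _).trans ?_
      rw [hbot, Subgroup.card_bot]
    exact absurd (Nat.le_of_dvd one_pos ((FischerM23.proj_refl_dvd_seven hc3 hR).trans h1)) (by norm_num)
  have key : ∀ x ∈ classD, Relation.ReflTransGen (fun u v => u ∈ classD ∧ v ∈ classD ∧ Commute u v) z0 x := by
    intro x hx
    obtain rfl | ⟨h, hh, rfl | rfl⟩ := cases23 hx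
    · exact Relation.ReflTransGen.refl
    · have ez : h * z0 * h⁻¹ = z0 := by rw [Fi23Trans.z0_comm hh, mul_inv_cancel_right]
      have h1 : Commute (h * z0 * h⁻¹) (h * y * h⁻¹) := hya.2.2.map (MulAut.conj h).toMonoidHom
      have h2 : Commute (h * y * h⁻¹) (h * c23 * h⁻¹) := hyc.2.2.symm.map (MulAut.conj h).toMonoidHom
      rw [ez] at h1
      exact (Relation.ReflTransGen.single ⟨mem_conjugatesOf_self, hg.2.1 h y hya.1, h1⟩).tail
        ⟨hg.2.1 h y hya.1, hx, h2⟩
    · refine Relation.ReflTransGen.single ⟨mem_conjugatesOf_self, hx, ?_⟩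
      obtain ⟨k, hk, e⟩ : ∃ k ∈ Hs, h * model23.d (ctx23.pt Fi23Trans.rep1) * h⁻¹ = k * y23 * k⁻¹ := by
        obtain h' | ⟨k, hk, h' | h'⟩ := cases23 y23_adj.1
        · exact absurd h' y23_adj.2.1
        · exfalso
          have := y23_adj.2.2.map (MulAut.conj k⁻¹).toMonoidHom
          rw [show (MulAut.conj k⁻¹).toMonoidHom z0 = z0 by
            show k⁻¹ * z0 * k⁻¹⁻¹ = z0
            rw [inv_inv, mul_assoc, ← Fi23Trans.z0_comm hk, inv_mul_cancel_left],
            show (MulAut.conj k⁻¹).toMonoidHom y23 = c23 by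
              show k⁻¹ * y23 * k⁻¹⁻¹ = c23
              rw [h']; group] at this
          exact proj23.1 this
        · exact ⟨h * k⁻¹, mul_mem hh (inv_mem hk), by rw [h']; group⟩
      rw [e]
      have := y23_adj.2.2.map (MulAut.conj k).toMonoidHom
      rwa [show (MulAut.conj k).toMonoidHom z0 = z0 by
        show k * z0 * k⁻¹ = z0
        rw [Fi23Trans.z0_comm hk, mul_inv_cancel_right]] at this
  intro u hu v hv
  have symm : ∀ {a b : fi23Setup.G}, Relation.ReflTransGen (fun u v => u ∈ classD ∧ v ∈ classD ∧ Commute u v) a b →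
      Relation.ReflTransGen (fun u v => u ∈ classD ∧ v ∈ classD ∧ Commute u v) b a := fun {a b} h => by
    induction h with
    | refl => exact Relation.ReflTransGen.refl
    | tail _ h ih => exact Relation.ReflTransGen.head ⟨h.2.1, h.1, h.2.2.symm⟩ ih
  exact (symm (key u hu)).trans (key v hv)

/-- Fi23 acts primitively on its transpositions. -/
theorem prim23 : Cfsg.IsPrimitiveUnderConj classD := by
  have := Fi23Trans.fi23_finite
  have := simple22
  have hd := data23
  have e : Nonempty (↥(Loc classD z0) ⧸ Subgroup.center ↥(Loc classD z0) ≃* fi22Setup.G) := by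
    obtain ⟨e⟩ := (Fi23Trans.cover_centralizer (d := z0) mem_conjugatesOf_self).2.1
    exact ⟨(QuotientGroup.congr _ _ (MulEquiv.subgroupCongr
      (loc23.trans Fi23Trans.centralizer_z0.symm)) (map_center _)).trans e⟩
  obtain ⟨e⟩ := e
  have hcc := FischerM23.centralCores_of_local_simple Fi23Trans.isThreeTranspositionClass hd.1 e.isSimpleGroup
  exact primitive_of_connected Fi23Trans.isThreeTranspositionClass
    ⟨_, hd.1, _, hd.2.1, fun e => hd.2.2.1 (e ▸ Commute.refl _)⟩ hcc connected23

end Cfsg.Agent.FischerExist
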