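/-
Reflections of norm one for the sum of squares over the field with three elements, on numbers.
Main results: `RData`, `RData.ok`, `RData.exists_refl`.
-/
import Cfsg.Agent.Lib.ThreeTrans.ReflThree
import Cfsg.Agent.Lib.CosetEnum.Pack

set_option autoImplicit false

namespace Cfsg.Agent.FischerExist

open Cfsg.Agent.Orth
open Cfsg.Agent.CosetEnum (lane force force_eq)
open QuadraticMap (polar)

/-- The sum of squares. -/
noncomputable abbrev Q1 (n : ℕ) : QuadraticForm (ZMod 3) (Fin n → ZMod 3) :=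
  QuadraticMap.weightedSumSquares (ZMod 3) (fun _ : Fin n => (1 : ZMod 3))

theorem q1_apply {n : ℕ} (x : Fin n → ZMod 3) : Q1 n x = ∑ i, x i * x i := by
  rw [QuadraticMap.weightedSumSquares_apply]
  simp

theorem polar_q1 {n : ℕ} (x y : Fin n → ZMod 3) : polar ⇑(Q1 n) x y = ∑ i, 2 * (x i * y i) := by
  simp only [polar, q1_apply, Pi.add_apply, ← Finset.sum_sub_distrib]
  exact Finset.sum_congr rfl fun i _ => by ring

theorem q1_nondegenerate (n : ℕ) : (Q1 n).polarBilin.Nondegenerate := by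
  have key : ∀ x : Fin n → ZMod 3, (∀ y, polar ⇑(Q1 n) x y = 0) → x = 0 := by
    intro x h
    funext i
    have h' := h (Pi.single i 1)
    rw [polar_q1, Finset.sum_eq_single i (fun j _ hj => by simp [hj]) (by simp),
      Pi.single_eq_same, mul_one] at h'
    exact (mul_eq_zero.1 h').resolve_left (by decide)
  exact ⟨fun x h => key x h, fun y h => key y fun z => by rw [QuadraticMap.polar_comm]; exact h z⟩

theorem q1_gram (n : ℕ) : Cfsg.polarGramDet (⇑(Q1 n)) = 2 ^ n := by
  have e : (Matrix.of fun i j : Fin n => polar ⇑(Q1 n) (Pi.single i 1) (Pi.single j 1)) =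
      Matrix.diagonal fun _ => (2 : ZMod 3) := by
    ext i j
    rw [Matrix.of_apply, polar_q1, Finset.sum_eq_single i (fun k _ hk => by simp [hk]) (by simp),
      Pi.single_eq_same, one_mul]
    rcases eq_or_ne i j with rfl | h
    · simp
    · simp [h]
  rw [Cfsg.polarGramDet, e, Matrix.det_diagonal, Finset.prod_const, Finset.card_univ, Fintype.card_fin]

/-- A digit in base three. -/
def dg (m e : ℕ) : ℕ := m / 3 ^ e % 3

/-- The number of some digits. -/
def mkN : ℕ → (ℕ → ℕ) → ℕ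
  | 0, _ => 0
  | k + 1, f => f 0 % 3 + 3 * mkN k (fun e => f (e + 1))

theorem mkN_lt : ∀ (k : ℕ) (f : ℕ → ℕ), mkN k f < 3 ^ k
  | 0, _ => by simp [mkN]
  | k + 1, f => by
    have := mkN_lt k (fun e => f (e + 1))
    show f 0 % 3 + 3 * mkN k _ < 3 ^ (k + 1)
    rw [pow_succ]; omega

theorem dg_mkN : ∀ (k : ℕ) (f : ℕ → ℕ) (e : ℕ), e < k → dg (mkN k f) e = f e % 3
  | k + 1, f, 0, _ => by simp [dg, mkN, Nat.add_mul_mod_self_left]
  | k + 1, f, e + 1, h => by
    have := dg_mkN k (fun e => f (e + 1)) e (by omega)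
    simp only [dg] at this
    rw [dg, pow_succ', ← Nat.div_div_eq_div_mul, mkN,
      show (f 0 % 3 + 3 * mkN k fun e => f (e + 1)) / 3 = mkN k fun e => f (e + 1) by omega]
    exact this

/-- The vector of a number. -/
def dec (n m : ℕ) : Fin n → ZMod 3 := fun i => (dg m i : ZMod 3)

/-- The number of the negative. -/
def negn (n m : ℕ) : ℕ := mkN n fun e => 2 * dg m e

theorem dec_negn (n m : ℕ) : dec n (negn n m) = -dec n m := by
  funext i
  show (dg (negn n m) i : ZMod 3) = -(dg m i : ZMod 3)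
  rw [negn, dg_mkN _ _ _ i.2, ZMod.natCast_mod, Nat.cast_mul]
  generalize (dg m i : ZMod 3) = a
  revert a
  decide

theorem exists_dec {n : ℕ} (x : Fin n → ZMod 3) : ∃ m < 3 ^ n, dec n m = x := by
  refine ⟨mkN n fun e => if h : e < n then (x ⟨e, h⟩).val else 0, mkN_lt _ _, funext fun i => ?_⟩
  show (dg (mkN n _) i : ZMod 3) = x i
  rw [dg_mkN _ _ _ i.2, dif_pos i.2, ZMod.natCast_mod, ZMod.natCast_zmod_val]

theorem eq_mkN : ∀ (n m : ℕ), m < 3 ^ n → m = mkN n (dg m)
  | 0, m, h => by simp [mkN] at h ⊢; omega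
  | n + 1, m, h => by
    have := eq_mkN n (m / 3) (by rw [pow_succ] at h; omega)
    have e : (fun e => dg m (e + 1)) = dg (m / 3) := funext fun e => by
      rw [dg, dg, pow_succ', Nat.div_div_eq_div_mul]
    rw [mkN, e, ← this, dg]
    simp
    omega

theorem mkN_congr : ∀ (n : ℕ) (f g : ℕ → ℕ), (∀ e < n, f e % 3 = g e % 3) → mkN n f = mkN n g
  | 0, _, _, _ => rfl
  | n + 1, f, g, h => by
    rw [mkN, mkN, h 0 (by omega), mkN_congr n _ _ fun e he => h (e + 1) (by omega)]

theorem dec_injective {n a b : ℕ} (ha : a < 3 ^ n) (hb : b < 3 ^ n) (h : dec n a = dec n b) : a = b := by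
  rw [eq_mkN n a ha, eq_mkN n b hb]
  exact mkN_congr n _ _ fun e he => (ZMod.natCast_eq_natCast_iff' _ _ 3).1 (congrFun h ⟨e, he⟩)

/-- The form on numbers. -/
def qfN : ℕ → ℕ → ℕ
  | 0, _ => 0
  | k + 1, m => (qfN k m + dg m k * dg m k) % 3

/-- The polar form on numbers. -/
def bfN : ℕ → ℕ → ℕ → ℕ
  | 0, _, _ => 0
  | k + 1, u, v => (bfN k u v + 2 * (dg u k * dg v k)) % 3

theorem q_dec : ∀ (n m : ℕ), Q1 n (dec n m) = (qfN n m : ZMod 3)
  | 0, m => by simp [qfN]
  | n + 1, m => by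
    have h := q_dec n m
    rw [q1_apply] at h ⊢
    rw [Fin.sum_univ_castSucc, qfN, ZMod.natCast_mod, Nat.cast_add, ← h, Nat.cast_mul]
    rfl

theorem b_dec : ∀ (n u v : ℕ), polar ⇑(Q1 n) (dec n u) (dec n v) = (bfN n u v : ZMod 3)
  | 0, u, v => by simp [polar_q1, bfN]
  | n + 1, u, v => by
    have h := b_dec n u v
    rw [polar_q1] at h ⊢
    rw [Fin.sum_univ_castSucc, bfN, ZMod.natCast_mod, Nat.cast_add, ← h, Nat.cast_mul, Nat.cast_mul]
    rfl

/-- A list of lines with some permutations of it. -/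
structure RData where
  n : ℕ
  N : ℕ
  k : ℕ
  vecT : ℕ
  labT : ℕ
  imgs : List ℕ
  parT : ℕ

namespace RData

variable (D : RData)

/-- The vector of a line. -/
noncomputable def vec (j : ℕ) : ℕ := lane 16 D.vecT j

/-- The image of a line under a chosen one. -/
noncomputable def img (i j : ℕ) : ℕ := lane 16 (D.imgs.getD i 0) j

/-- Equal digits up to a sign. -/
noncomputable def pmEq (f g : ℕ → ℕ) : Bool :=
  ((List.range D.n).all fun e => Nat.beq (f e % 3) (g e % 3)) ||
    (List.range D.n).all fun e => Nat.beq (f e % 3) (2 * g e % 3)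

/-- The check. -/
noncomputable def ok : Bool :=
  ((List.range D.N).all fun j => Nat.blt (D.vec j) (3 ^ D.n) && (Nat.beq (qfN D.n (D.vec j)) 1 &&
    (Nat.beq (lane 16 D.labT (D.vec j)) (j + 1) && Nat.beq (lane 16 D.labT (negn D.n (D.vec j))) (j + 1)))) &&
  (((List.range (3 ^ D.n)).all fun m => !Nat.beq (qfN D.n m) 1 || (Nat.blt 0 (lane 16 D.labT m) &&
    (Nat.blt (lane 16 D.labT m - 1) D.N && D.pmEq (dg m) (dg (D.vec (lane 16 D.labT m - 1)))))) &&
  (Nat.ble D.k D.N && (((List.range D.k).all fun i => (List.range D.N).all fun j => Nat.blt (D.img i j) D.N &&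
    force (bfN D.n (D.vec i) (D.vec j)) fun b =>
      D.pmEq (fun e => dg (D.vec j) e + 2 * (b * dg (D.vec i) e)) (dg (D.vec (D.img i j)))) &&
  (List.range D.N).all fun j => Nat.blt j D.k || (force (lane 16 D.parT j) fun w =>
    Nat.blt (w / D.N) D.k && (Nat.blt (w % D.N) j && Nat.beq (D.img (w / D.N) (w % D.N)) j)))))

theorem pmEq_spec {D : RData} {f g : ℕ → ℕ} (h : D.pmEq f g = true) :
    (fun i : Fin D.n => (f i : ZMod 3)) = (fun i : Fin D.n => (g i : ZMod 3)) ∨
      (fun i : Fin D.n => (f i : ZMod 3)) = -(fun i : Fin D.n => (g i : ZMod 3)) := by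
  simp only [pmEq, Bool.or_eq_true, List.all_eq_true, List.mem_range] at h
  rcases h with h | h
  · exact Or.inl (funext fun i => (ZMod.natCast_eq_natCast_iff' _ _ 3).2 (Nat.eq_of_beq_eq_true (h i i.2)))
  · refine Or.inr (funext fun i => ?_)
    have e := (ZMod.natCast_eq_natCast_iff' _ (2 * g i) 3).2 (Nat.eq_of_beq_eq_true (h i i.2))
    show (f i : ZMod 3) = -(g i : ZMod 3)
    rw [e, Nat.cast_mul]
    generalize (g i : ZMod 3) = a
    revert a
    decide

/-- The reflection of a line. -/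
noncomputable def rf (j : Fin D.N) : IsoGrp (Q1 D.n) := refl (Q1 D.n) (dec D.n (D.vec j))

theorem refl_neg' {n : ℕ} (v : Fin n → ZMod 3) : refl (Q1 n) (-v) = refl (Q1 n) v := by
  rw [← neg_one_smul (ZMod 3) v, refl_smul (Q1 n) (by decide) v]

/-- Facts from the check. -/
theorem exists_refl {D : RData} (h : D.ok = true) : Function.Injective D.rf ∧
    Set.range D.rf = Cfsg.reflectionsOfNorm (⇑(Q1 D.n)) 1 ∧
    ∃ p : Fin D.N → Fin D.N → Fin D.N,
      (∀ s : Fin D.N, (s : ℕ) < D.k → ∀ j, D.rf s * D.rf j * (D.rf s)⁻¹ = D.rf (p s j)) ∧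
      (∀ s j : Fin D.N, (s : ℕ) < D.k → (p s j : ℕ) = D.img s j) ∧
      ∀ j : Fin D.N, (j : ℕ) < D.k ∨ ∃ s : Fin D.N, (s : ℕ) < D.k ∧ ∃ i < j, p s i = j := by
  simp only [ok, force_eq, Bool.and_eq_true, Bool.or_eq_true, Bool.not_eq_true', List.all_eq_true,
    List.mem_range, Nat.blt_eq, Nat.ble_eq] at h
  obtain ⟨hv, hc, hkN, himg, hpar⟩ := h
  have hq : ∀ j : Fin D.N, Q1 D.n (dec D.n (D.vec j)) = 1 := fun j => by
    rw [q_dec, Nat.eq_of_beq_eq_true (hv j j.2).2.1, Nat.cast_one]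
  refine ⟨fun a b e => ?_, ?_, ?_⟩
  · obtain ⟨ha, -, hla, hla'⟩ := hv a a.2
    obtain ⟨hb, -, hlb, -⟩ := hv b b.2
    have e1 : ap (D.rf a) (dec D.n (D.vec a)) = ap (D.rf b) (dec D.n (D.vec a)) := by rw [e]
    rw [rf, rf, refl_ap_self (Q1 D.n) (by rw [hq]; exact one_ne_zero), refl_ap, hq, inv_one, one_mul] at e1
    generalize polar ⇑(Q1 D.n) (dec D.n (D.vec b)) (dec D.n (D.vec a)) = t at e1
    have e2 : t • dec D.n (D.vec b) = -dec D.n (D.vec a) := by
      funext i
      have e3 := congrFun e1 i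
      simp only [Pi.sub_apply, Pi.neg_apply, Pi.smul_apply, smul_eq_mul] at e3 ⊢
      generalize dec D.n (D.vec a) i = x at e3 ⊢
      generalize t * dec D.n (D.vec b) i = y at e3 ⊢
      revert x y
      decide
    refine Fin.ext (Nat.succ_injective ?_)
    show (a : ℕ) + 1 = (b : ℕ) + 1
    rw [← Nat.eq_of_beq_eq_true hlb]
    rcases (by decide : ∀ t : ZMod 3, t = 0 ∨ t = 1 ∨ t = 2) t with rfl | rfl | rfl
    · rw [zero_smul, zero_eq_neg] at e2
      have := hq a
      rw [e2, QuadraticMap.map_zero] at this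
      exact absurd this zero_ne_one
    · rw [one_smul, ← dec_negn] at e2
      rw [dec_injective hb (mkN_lt _ _) e2]
      exact (Nat.eq_of_beq_eq_true hla').symm
    · rw [show (2 : ZMod 3) = -1 by decide, neg_one_smul, neg_inj] at e2
      rw [dec_injective hb ha e2]
      exact (Nat.eq_of_beq_eq_true hla).symm
  · rw [ThreeTrans.reflectionsOfNorm_eq]
    refine Set.Subset.antisymm ?_ ?_
    · rintro _ ⟨j, rfl⟩
      exact ⟨_, hq j, rfl⟩
    · rintro _ ⟨v, hv1, rfl⟩
      obtain ⟨m, hm, rfl⟩ := exists_dec v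
      have hv1' : Q1 D.n (dec D.n m) = 1 := hv1
      rw [q_dec, ← Nat.cast_one (R := ZMod 3), ZMod.natCast_eq_natCast_iff'] at hv1'
      have hqm : qfN D.n m % 3 = 1 := hv1'
      rcases hc m hm with h | ⟨-, hlt, hp⟩
      · exfalso
        rcases hn : D.n with - | n
        · rw [hn] at hqm; simp [qfN] at hqm
        · rw [hn, qfN] at h hqm
          rw [Nat.mod_mod] at hqm
          rw [hqm] at h
          exact Bool.false_ne_true h.symm
      · refine ⟨⟨_, hlt⟩, ?_⟩
        show refl (Q1 D.n) (dec D.n (D.vec _)) = refl (Q1 D.n) (dec D.n m)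
        rcases pmEq_spec hp with e | e
        · change dec D.n m = dec D.n _ at e
          rw [e]
        · change dec D.n m = -dec D.n _ at e
          rw [e, refl_neg']
  · classical
    let p : Fin D.N → Fin D.N → Fin D.N := fun s j =>
      if hs : (s : ℕ) < D.k then ⟨D.img s j, (himg s hs j j.2).1⟩ else j
    refine ⟨p, fun s hs j => ?_, fun s j hs => by simp only [p, dif_pos hs], fun j => ?_⟩
    · show _ = refl (Q1 D.n) (dec D.n (D.vec (p s j : ℕ)))
      rw [show (p s j : ℕ) = D.img s j by simp only [p, dif_pos hs]]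
      show refl (Q1 D.n) _ * refl (Q1 D.n) _ * (refl (Q1 D.n) _)⁻¹ = _
      rw [conj_refl, refl_ap, hq, inv_one, one_mul, b_dec]
      have e0 : dec D.n (D.vec j) - (bfN D.n (D.vec s) (D.vec j) : ZMod 3) • dec D.n (D.vec s) =
          fun i : Fin D.n => ((dg (D.vec j) i + 2 * (bfN D.n (D.vec s) (D.vec j) * dg (D.vec s) i) : ℕ) : ZMod 3) := by
        funext i
        simp only [Pi.sub_apply, Pi.smul_apply, smul_eq_mul, dec, Nat.cast_add, Nat.cast_mul]
        generalize (dg (D.vec j) i : ZMod 3) = a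
        generalize (bfN D.n (D.vec s) (D.vec j) : ZMod 3) = b
        generalize (dg (D.vec s) i : ZMod 3) = c
        revert a b c
        decide
      rcases pmEq_spec (himg s hs j j.2).2 with e | e
      · rw [e0, e]; rfl
      · rw [e0, e]; exact refl_neg' _
    · rcases hpar j j.2 with h | ⟨h1, h2, h3⟩
      · exact Or.inl h
      · refine Or.inr ⟨⟨_, lt_of_lt_of_le h1 hkN⟩, h1, ⟨_, h2.trans j.2⟩, h2, Fin.ext ?_⟩
        simp only [p, dif_pos h1]
        exact Nat.eq_of_beq_eq_true h3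

end RData

end Cfsg.Agent.FischerExist
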