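/-
Two groups generated by indexed sets with the same conjugation tables agree modulo their centres.
Main result: `quot_equiv`.
-/
import Cfsg.Agent.EqLemmas

set_option autoImplicit false

namespace Cfsg.Agent.FischerExist

variable {G R : Type*} [Group G] [Group R] {N : ℕ} {t : Fin N → G} {r : Fin N → R}

/-- Pairs that permute the two families in the same way. -/
def graphSub (t : Fin N → G) (r : Fin N → R) : Subgroup (G × R) where
  carrier := {x | ∃ σ : Equiv.Perm (Fin N), ∀ j, x.1 * t j * x.1⁻¹ = t (σ j) ∧ x.2 * r j * x.2⁻¹ = r (σ j)}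
  one_mem' := ⟨1, fun j => by simp⟩
  mul_mem' := by
    rintro x y ⟨σ, hσ⟩ ⟨τ, hτ⟩
    refine ⟨σ * τ, fun j => ⟨?_, ?_⟩⟩
    · rw [Equiv.Perm.mul_apply, ← (hσ _).1, ← (hτ j).1, Prod.fst_mul]; group
    · rw [Equiv.Perm.mul_apply, ← (hσ _).2, ← (hτ j).2, Prod.snd_mul]; group
  inv_mem' := by
    rintro x ⟨σ, hσ⟩
    refine ⟨σ.symm, fun j => ⟨?_, ?_⟩⟩
    · have h := (hσ (σ.symm j)).1
      rw [Equiv.apply_symm_apply] at h
      rw [← h, Prod.fst_inv]; group
    · have h := (hσ (σ.symm j)).2
      rw [Equiv.apply_symm_apply] at h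
      rw [← h, Prod.snd_inv]; group

/-- An element of the generated group is central when it commutes with the family. -/
theorem mem_center_iff_fix {S : Subgroup G} (hS : S = Subgroup.closure (Set.range t)) (a : S) :
    a ∈ Subgroup.center S ↔ ∀ j, (a : G) * t j * (a : G)⁻¹ = t j := by
  subst hS
  constructor
  · intro h j
    have h1 := congrArg Subtype.val
      (Subgroup.mem_center_iff.1 h ⟨t j, Subgroup.subset_closure ⟨j, rfl⟩⟩)
    change t j * (a : G) = (a : G) * t j at h1
    rw [← h1, mul_inv_cancel_right]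
  · intro h
    refine Subgroup.mem_center_iff.2 fun g => Subtype.ext ?_
    show Commute (g : G) (a : G)
    obtain ⟨g, hg⟩ := g
    induction hg using Subgroup.closure_induction with
    | mem x hx =>
      obtain ⟨j, rfl⟩ := hx
      exact (mul_inv_eq_iff_eq_mul.1 (h j)).symm
    | one => exact Commute.one_left _
    | mul u v _ _ hu hv => exact hu.mul_left hv
    | inv u _ hu => exact hu.inv_left

/-- The whole family lies in the group generated by the chosen members. -/
theorem closure_gens (gens : Set (Fin N)) (p : Fin N → Fin N → Fin N)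
    (hG : ∀ s ∈ gens, ∀ j, t s * t j * (t s)⁻¹ = t (p s j))
    (hgen : ∀ j, j ∈ gens ∨ ∃ s ∈ gens, ∃ i < j, p s i = j) :
    Subgroup.closure (Set.range t) = Subgroup.closure (t '' gens) := by
  refine le_antisymm ((Subgroup.closure_le _).2 ?_) (Subgroup.closure_mono (Set.image_subset_range _ _))
  rintro _ ⟨j, rfl⟩
  induction hv : (j : ℕ) using Nat.strong_induction_on generalizing j with
  | _ v ih =>
    rcases hgen j with h | ⟨s, hs, i, hi, rfl⟩
    · exact Subgroup.subset_closure ⟨j, h, rfl⟩
    · have hs' : t s ∈ Subgroup.closure (t '' gens) := Subgroup.subset_closure ⟨s, hs, rfl⟩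
      rw [← hG s hs i]
      exact mul_mem (mul_mem hs' (ih i (hv ▸ hi) i rfl)) (inv_mem hs')

/-- Equal conjugation tables give isomorphic groups modulo the centres. -/
theorem quot_equiv (ht : Function.Injective t) (hr : Function.Injective r) (gens : Set (Fin N))
    (p : Fin N → Fin N → Fin N)
    (hG : ∀ s ∈ gens, ∀ j, t s * t j * (t s)⁻¹ = t (p s j))
    (hR : ∀ s ∈ gens, ∀ j, r s * r j * (r s)⁻¹ = r (p s j))
    (hgen : ∀ j, j ∈ gens ∨ ∃ s ∈ gens, ∃ i < j, p s i = j) :
    Nonempty (↥(Subgroup.closure (Set.range t)) ⧸ Subgroup.center ↥(Subgroup.closure (Set.range t)) ≃*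
      ↥(Subgroup.closure (Set.range r)) ⧸ Subgroup.center ↥(Subgroup.closure (Set.range r))) := by
  set A := Subgroup.closure (Set.range t) with hA
  set B := Subgroup.closure (Set.range r) with hB
  have hA' : A = Subgroup.closure (t '' gens) := closure_gens gens p hG hgen
  have hB' : B = Subgroup.closure (r '' gens) := closure_gens gens p hR hgen
  let P : Subgroup (G × R) := Subgroup.closure ((fun s => (t s, r s)) '' gens)
  have hPA : P.map (MonoidHom.fst G R) = A := by
    rw [hA', MonoidHom.map_closure, Set.image_image]; rfl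
  have hPB : P.map (MonoidHom.snd G R) = B := by
    rw [hB', MonoidHom.map_closure, Set.image_image]; rfl
  have hPg : P ≤ graphSub t r := by
    refine (Subgroup.closure_le _).2 ?_
    rintro _ ⟨s, hs, rfl⟩
    have hinj : Function.Injective (p s) := fun a b e => ht (by
      have h1 := hG s hs a
      rw [e, ← hG s hs b] at h1
      exact mul_left_cancel (mul_right_cancel h1))
    exact ⟨Equiv.ofBijective (p s) ⟨hinj, Finite.injective_iff_surjective.1 hinj⟩,
      fun j => ⟨hG s hs j, hR s hs j⟩⟩
  let fA : P →* A := ((MonoidHom.fst G R).comp P.subtype).codRestrict A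
    (fun x => hPA ▸ ⟨(x : G × R), x.2, rfl⟩)
  let fB : P →* B := ((MonoidHom.snd G R).comp P.subtype).codRestrict B
    (fun x => hPB ▸ ⟨(x : G × R), x.2, rfl⟩)
  have sA : Function.Surjective fA := by
    rintro ⟨a, ha⟩
    rw [← hPA] at ha
    obtain ⟨x, hx, rfl⟩ := ha
    exact ⟨⟨x, hx⟩, rfl⟩
  have sB : Function.Surjective fB := by
    rintro ⟨b, hb⟩
    rw [← hPB] at hb
    obtain ⟨x, hx, rfl⟩ := hb
    exact ⟨⟨x, hx⟩, rfl⟩
  let qA := (QuotientGroup.mk' (Subgroup.center A)).comp fA
  let qB := (QuotientGroup.mk' (Subgroup.center B)).comp fB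
  have hker : qA.ker = qB.ker := by
    ext x
    obtain ⟨σ, hσ⟩ := hPg x.2
    rw [MonoidHom.mem_ker, MonoidHom.mem_ker]
    show ((fA x : A) : A ⧸ Subgroup.center A) = 1 ↔ ((fB x : B) : B ⧸ Subgroup.center B) = 1
    rw [QuotientGroup.eq_one_iff, QuotientGroup.eq_one_iff, mem_center_iff_fix hA, mem_center_iff_fix hB]
    constructor
    · intro h j
      show (x : G × R).2 * r j * (x : G × R).2⁻¹ = r j
      rw [(hσ j).2, show σ j = j from ht ((hσ j).1.symm.trans (h j))]
    · intro h j
      show (x : G × R).1 * t j * (x : G × R).1⁻¹ = t j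
      rw [(hσ j).1, show σ j = j from hr ((hσ j).2.symm.trans (h j))]
  exact ⟨(QuotientGroup.quotientKerEquivOfSurjective qA ((QuotientGroup.mk'_surjective _).comp sA)).symm.trans
    ((QuotientGroup.quotientMulEquivOfEq hker).trans
      (QuotientGroup.quotientKerEquivOfSurjective qB ((QuotientGroup.mk'_surjective _).comp sB)))⟩

end Cfsg.Agent.FischerExist
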