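/-
A predicate on three packed vectors at once, by recursive halving.
Main results: `scan`, `scan_sound`, `scanNZ`, `scanNZ_sound`.
-/
import Cfsg.Agent.Lib.CosetEnum.Pack

set_option autoImplicit false

namespace Cfsg.Agent.FischerExist

open Cfsg.Agent.CosetEnum (lane lane_def force force_eq)

theorem testBit_lane (B V i k : ℕ) : (lane B V i).testBit k = (decide (k < B) && V.testBit (i * B + k)) := by
  rw [lane_def, Nat.testBit_land, Nat.testBit_shiftRight, Nat.testBit_two_pow_sub_one, Bool.and_comm]

theorem lane_low {B V m i : ℕ} (hi : i < m) :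
    lane B (Nat.land V (Nat.sub (Nat.shiftLeft 1 (m * B)) 1)) i = lane B V i := by
  refine Nat.eq_of_testBit_eq fun k => ?_
  rw [testBit_lane, testBit_lane]
  by_cases hk : k < B
  · have h : i * B + k < m * B := by
      have := Nat.mul_le_mul_right B (Nat.succ_le_of_lt hi)
      rw [Nat.succ_mul] at this
      omega
    show (decide (k < B) && (V &&& (1 <<< (m * B) - 1)).testBit (i * B + k)) = _
    rw [Nat.one_shiftLeft, Nat.testBit_land, Nat.testBit_two_pow_sub_one]
    simp [h]
  · simp [hk]

theorem lane_high (B V m i : ℕ) : lane B (Nat.shiftRight V (m * B)) i = lane B V (m + i) := by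
  refine Nat.eq_of_testBit_eq fun k => ?_
  rw [testBit_lane, testBit_lane]
  show (decide (k < B) && (V >>> (m * B)).testBit (i * B + k)) = _
  rw [Nat.testBit_shiftRight, show m * B + (i * B + k) = (m + i) * B + k by ring]

/-- Test all positions below `2 ^ j`. -/
noncomputable def scan (B : ℕ) (f : ℕ → ℕ → ℕ → ℕ → Bool) : ℕ → ℕ → ℕ → ℕ → ℕ → Bool :=
  fun j => Nat.rec (motive := fun _ => ℕ → ℕ → ℕ → ℕ → Bool)
    (fun b A C L => f b (lane B A 0) (lane B C 0) (lane B L 0))
    (fun j ih b A C L => force (Nat.shiftLeft 1 j) fun m => force (Nat.mul m B) fun s =>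
      force (Nat.sub (Nat.shiftLeft 1 s) 1) fun M =>
        (force (Nat.land A M) fun A' => force (Nat.land C M) fun C' => force (Nat.land L M) fun L' =>
          ih b A' C' L') &&
        force (Nat.shiftRight A s) fun A' => force (Nat.shiftRight C s) fun C' =>
          force (Nat.shiftRight L s) fun L' => force (Nat.add b m) fun b' => ih b' A' C' L') j

theorem scan_sound {B : ℕ} {f : ℕ → ℕ → ℕ → ℕ → Bool} : ∀ (j b A C L : ℕ), scan B f j b A C L = true →
    ∀ i < 2 ^ j, f (b + i) (lane B A i) (lane B C i) (lane B L i) = true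
  | 0, b, A, C, L, h, i, hi => by
    obtain rfl : i = 0 := by simpa using hi
    exact h
  | j + 1, b, A, C, L, h, i, hi => by
    change (force (Nat.shiftLeft 1 j) fun m => force (Nat.mul m B) fun s =>
      force (Nat.sub (Nat.shiftLeft 1 s) 1) fun M =>
        (force (Nat.land A M) fun A' => force (Nat.land C M) fun C' => force (Nat.land L M) fun L' =>
          scan B f j b A' C' L') &&
        force (Nat.shiftRight A s) fun A' => force (Nat.shiftRight C s) fun C' =>
          force (Nat.shiftRight L s) fun L' => force (Nat.add b m) fun b' => scan B f j b' A' C' L') = true at h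
    simp only [force_eq, Bool.and_eq_true] at h
    have hm : Nat.shiftLeft 1 j = 2 ^ j := Nat.one_shiftLeft j
    rw [hm] at h
    rw [pow_succ] at hi
    by_cases hl : i < 2 ^ j
    · have := scan_sound j _ _ _ _ h.1 i hl
      rwa [Nat.mul_eq, lane_low hl, lane_low hl, lane_low hl] at this
    · obtain ⟨d, rfl⟩ := Nat.le.dest (Nat.le_of_not_lt hl)
      have := scan_sound j _ _ _ _ h.2 d (by omega)
      rw [Nat.mul_eq, lane_high, lane_high, lane_high] at this
      rwa [show b + (2 ^ j + d) = Nat.add b (2 ^ j) + d from (Nat.add_assoc b _ d).symm]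

/-- Test the positions with a non-zero label. -/
noncomputable def scanNZ (B : ℕ) (f : ℕ → ℕ → Bool) : ℕ → ℕ → ℕ → Bool :=
  fun j => Nat.rec (motive := fun _ => ℕ → ℕ → Bool)
    (fun A L => bif Nat.beq L 0 then true else f (lane B A 0) (lane B L 0))
    (fun j ih A L => bif Nat.beq L 0 then true else force (Nat.mul (Nat.shiftLeft 1 j) B) fun s =>
      force (Nat.sub (Nat.shiftLeft 1 s) 1) fun M =>
        (force (Nat.land A M) fun A' => force (Nat.land L M) fun L' => ih A' L') &&
        force (Nat.shiftRight A s) fun A' => force (Nat.shiftRight L s) fun L' => ih A' L') j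

theorem scanNZ_sound {B : ℕ} {f : ℕ → ℕ → Bool} : ∀ (j A L : ℕ), scanNZ B f j A L = true →
    ∀ i < 2 ^ j, lane B L i ≠ 0 → f (lane B A i) (lane B L i) = true
  | 0, A, L, h, i, hi, hne => by
    obtain rfl : i = 0 := by simpa using hi
    have hL : Nat.beq L 0 = false := by
      rw [← Bool.not_eq_true]
      intro e
      exact hne (by rw [Nat.eq_of_beq_eq_true e, lane_def]; simp)
    change (bif Nat.beq L 0 then true else f (lane B A 0) (lane B L 0)) = true at h
    rwa [hL] at h
  | j + 1, A, L, h, i, hi, hne => by
    have hL : Nat.beq L 0 = false := by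
      rw [← Bool.not_eq_true]
      intro e
      exact hne (by rw [Nat.eq_of_beq_eq_true e, lane_def]; simp)
    change (bif Nat.beq L 0 then true else force (Nat.mul (Nat.shiftLeft 1 j) B) fun s =>
      force (Nat.sub (Nat.shiftLeft 1 s) 1) fun M =>
        (force (Nat.land A M) fun A' => force (Nat.land L M) fun L' => scanNZ B f j A' L') &&
        force (Nat.shiftRight A s) fun A' => force (Nat.shiftRight L s) fun L' =>
          scanNZ B f j A' L') = true at h
    rw [hL] at h
    simp only [cond_false, force_eq, Bool.and_eq_true] at h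
    have hm : Nat.shiftLeft 1 j = 2 ^ j := Nat.one_shiftLeft j
    rw [hm] at h
    rw [pow_succ] at hi
    by_cases hl : i < 2 ^ j
    · have := scanNZ_sound j _ _ h.1 i hl (by rw [Nat.mul_eq, lane_low hl]; exact hne)
      rwa [Nat.mul_eq, lane_low hl, lane_low hl] at this
    · obtain ⟨d, rfl⟩ := Nat.le.dest (Nat.le_of_not_lt hl)
      have := scanNZ_sound j _ _ h.2 d (by omega) (by rw [Nat.mul_eq, lane_high]; exact hne)
      rwa [Nat.mul_eq, lane_high, lane_high] at this

end Cfsg.Agent.FischerExist
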