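/-
Common neighbours of two non-commuting transpositions as a reflection class.
Main results: `PData`, `PData.projRefl`, `range_d`.
-/
import Cfsg.Agent.Lib.FischerExist.Quot
import Cfsg.Agent.Lib.FischerExist.Refl
import Cfsg.Agent.Lib.FischerExist.Scan
import Cfsg.Agent.Lib.FischerAut.Tree
import Cfsg.Agent.Lib.ThreeTrans.RankThree

set_option autoImplicit false

namespace Cfsg.Agent.FischerExist

open Cfsg.Agent.CosetEnum (lane force force_eq)
open Cfsg.Agent.FischerAut (Model Ctx mapF mapF_eq)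
open Cfsg.Agent.ThreeTrans (adj common)

/-- Points labelled by the lines of a line list, with words for the chosen ones. -/
structure PData where
  R : RData
  secT : ℕ
  labT : ℕ
  wb : List ℕ
  gw : List (List ℕ)

/-- The centre under an isomorphism. -/
theorem map_center {X Y : Type*} [Group X] [Group Y] (e : X ≃* Y) :
    (Subgroup.center X).map e.toMonoidHom = Subgroup.center Y := by
  ext y
  rw [Subgroup.mem_map, Subgroup.mem_center_iff]
  constructor
  · rintro ⟨x, hx, rfl⟩ g
    obtain ⟨g, rfl⟩ := e.surjective g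
    show e g * e x = e x * e g
    rw [← map_mul, ← map_mul, Subgroup.mem_center_iff.1 hx g]
  · intro hy
    obtain ⟨x, rfl⟩ := e.surjective y
    exact ⟨x, Subgroup.mem_center_iff.2 fun g => e.injective (by rw [map_mul, map_mul, hy]), rfl⟩

namespace PData

variable (D : PData)

/-- The point of a line. -/
noncomputable def sec (j : ℕ) : ℕ := lane 16 D.secT j

/-- The test at one point. -/
noncomputable def ftest (n Pa Pb i va vb l : ℕ) : Bool :=
  !Nat.blt i n || (Nat.beq i Pa || (Nat.beq i Pb || (!Nat.beq va i || (!Nat.beq vb i ||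
    (Nat.blt 0 l && (Nat.blt (l - 1) D.R.N && Nat.beq (D.sec (l - 1)) i))))))

/-- The check of one chosen point. -/
noncomputable def genOK (B lg : ℕ) (V P : List ℕ → ℕ) (okw : List ℕ → Bool) (i : ℕ) : Bool :=
  okw (D.gw.getD i []) &&
    (Nat.beq (P (D.gw.getD i [])) (D.sec i) && force (V (D.gw.getD i [])) fun T =>
      scanNZ B (fun v l => Nat.beq v (D.sec (D.R.img i (l - 1)))) lg T D.labT)

/-- The check of the chosen points. -/
noncomputable def gensOK (B lg : ℕ) (V P : List ℕ → ℕ) (okw : List ℕ → Bool) : Bool :=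
  (List.range D.R.k).all (D.genOK B lg V P okw)

/-- The check of the common neighbours of the empty word and the word `wb`. -/
noncomputable def commonOK (B lg n : ℕ) (V P : List ℕ → ℕ) (okw : List ℕ → Bool) : Bool :=
  (okw [] && okw D.wb) && force (P []) fun Pa => force (P D.wb) fun Pb =>
    force (V []) fun Ta => force (V D.wb) fun Tb =>
      !Nat.beq (lane B Ta Pb) Pb && (((List.range D.R.N).all fun j =>
        Nat.blt (D.sec j) n && (Nat.beq (lane B D.labT (D.sec j)) (j + 1) && (!Nat.beq (D.sec j) Pa &&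
          (!Nat.beq (D.sec j) Pb && (Nat.beq (lane B Ta (D.sec j)) (D.sec j) &&
            Nat.beq (lane B Tb (D.sec j)) (D.sec j)))))) &&
        (Nat.ble n (2 ^ lg) && scan B (D.ftest n Pa Pb) lg 0 Ta Tb D.labT))

variable {G : Type*} [Group G] {n : ℕ} {M : Model G n}

/-- The class of a model. -/
theorem range_d (M : Model G n) (p₀ : Fin n) : Set.range M.d = conjugatesOf (M.d p₀) := by
  refine Set.Subset.antisymm ?_ ?_
  · rintro _ ⟨i, rfl⟩
    obtain ⟨g, rfl⟩ := M.trans p₀ i
    exact isConj_iff.2 ⟨g, (M.conj g p₀).symm⟩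
  · intro x hx
    obtain ⟨g, rfl⟩ := isConj_iff.1 (show IsConj (M.d p₀) x from hx)
    exact ⟨M.ρ g p₀, M.conj g p₀⟩

theorem mem_adj {a i : Fin n} : M.d i ∈ adj (Set.range M.d) (M.d a) ↔ i ≠ a ∧ M.ρ (M.d a) i = i := by
  constructor
  · rintro ⟨-, hne, hc⟩
    exact ⟨fun e => hne (by rw [e]), (M.adj_iff a i).2 hc⟩
  · rintro ⟨hne, hc⟩
    exact ⟨⟨i, rfl⟩, fun e => hne (M.inj e), (M.adj_iff a i).1 hc⟩

/-- The common group is a projective reflection group. -/
theorem projRefl {B lg : ℕ} {V P : List ℕ → ℕ} {okw : List ℕ → Bool} (C : Ctx M B V P okw)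
    {D : PData} (hR : D.R.ok = true) (hg : D.gensOK B lg V P okw = true)
    (hc : D.commonOK B lg n V P okw = true) :
    ¬ Commute (M.d (C.pt [])) (M.d (C.pt D.wb)) ∧
      Cfsg.IsProjReflectionGroupModThree
        (↥(Subgroup.closure (common (Set.range M.d) (M.d (C.pt [])) (M.d (C.pt D.wb)))) ⧸
          Subgroup.center ↥(Subgroup.closure (common (Set.range M.d) (M.d (C.pt [])) (M.d (C.pt D.wb)))))
        D.R.n (2 ^ D.R.n) 1 := by
  simp only [commonOK, force_eq, Bool.and_eq_true, Bool.not_eq_true', List.all_eq_true, List.mem_range,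
    Nat.blt_eq, Nat.ble_eq] at hc
  obtain ⟨⟨hoa, hob⟩, hnc, hmem, hn, hscan⟩ := hc
  simp only [gensOK, genOK, force_eq, Bool.and_eq_true, List.all_eq_true, List.mem_range] at hg
  have hgen := hg
  have hPa := C.hP [] hoa
  have hPb := C.hP D.wb hob
  have hVa := C.hV [] hoa
  have hVb := C.hV D.wb hob
  set a := C.pt []
  set b := C.pt D.wb
  have hab : M.ρ (M.d a) b ≠ b := fun e => by
    rw [hPb, hVa b, e, Nat.beq_refl] at hnc
    exact Bool.false_ne_true hnc.symm
  refine ⟨fun h => hab ((M.adj_iff a b).2 h), ?_⟩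
  let sp : Fin D.R.N → Fin n := fun j => ⟨D.sec j, (hmem j j.2).1⟩
  have hsp : Function.Injective sp := fun i j e => Fin.ext (Nat.succ_injective (by
    show (i : ℕ) + 1 = (j : ℕ) + 1
    rw [← Nat.eq_of_beq_eq_true (hmem i i.2).2.1, ← Nat.eq_of_beq_eq_true (hmem j j.2).2.1,
      show D.sec i = D.sec j from congrArg Fin.val e]))
  have hcommon : common (Set.range M.d) (M.d a) (M.d b) = Set.range fun j => M.d (sp j) := by
    refine Set.Subset.antisymm ?_ ?_
    · intro x hx
      obtain ⟨i, rfl⟩ := hx.1.1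
      obtain ⟨hia, hfa⟩ := mem_adj.1 hx.1
      obtain ⟨hib, hfb⟩ := mem_adj.1 hx.2
      have h := scan_sound _ _ _ _ _ hscan i (lt_of_lt_of_le i.2 hn)
      simp only [ftest, Nat.zero_add, Bool.or_eq_true, Bool.not_eq_true', Bool.and_eq_true,
        Nat.blt_eq] at h
      rw [hVa i, hfa, hVb i, hfb, hPa, hPb, Nat.beq_refl] at h
      rcases h with h | h | h | h | h | ⟨-, h1, h2⟩
      · exact absurd h (by rw [show Nat.blt i n = true from Nat.blt_eq.symm ▸ i.2]; exact Bool.noConfusion)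
      · exact absurd (Fin.ext (Nat.eq_of_beq_eq_true h)) hia
      · exact absurd (Fin.ext (Nat.eq_of_beq_eq_true h)) hib
      · exact absurd h Bool.noConfusion
      · exact absurd h Bool.noConfusion
      · exact ⟨⟨_, h1⟩, congrArg M.d (Fin.ext (Nat.eq_of_beq_eq_true h2))⟩
    · rintro _ ⟨j, rfl⟩
      obtain ⟨-, -, hja, hjb, hfa, hfb⟩ := hmem j j.2
      refine ⟨mem_adj.2 ⟨fun e => ?_, ?_⟩, mem_adj.2 ⟨fun e => ?_, ?_⟩⟩
      · rw [hPa, ← e, Nat.beq_refl] at hja
        exact Bool.false_ne_true hja.symm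
      · exact Fin.ext ((hVa (sp j)).symm.trans (Nat.eq_of_beq_eq_true hfa))
      · rw [hPb, ← e, Nat.beq_refl] at hjb
        exact Bool.false_ne_true hjb.symm
      · exact Fin.ext ((hVb (sp j)).symm.trans (Nat.eq_of_beq_eq_true hfb))
  obtain ⟨hinj, hrange, p, hrel, hpimg, hparent⟩ := RData.exists_refl hR
  obtain ⟨e⟩ := quot_equiv (t := fun j => M.d (sp j)) (r := D.R.rf) (fun i j h => hsp (M.inj h)) hinj
    {s | (s : ℕ) < D.R.k} p (fun s hs j => by
      obtain ⟨ho, hP, hV⟩ := hgen s hs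
      have es : C.pt (D.gw.getD s []) = sp s := Fin.ext ((C.hP _ ho).symm.trans (Nat.eq_of_beq_eq_true hP))
      show M.d (sp s) * M.d (sp j) * (M.d (sp s))⁻¹ = M.d (sp (p s j))
      rw [← M.conj, ← es]
      refine congrArg M.d (Fin.ext ?_)
      rw [← C.hV _ ho]
      show lane B _ (D.sec j) = D.sec (p s j)
      rw [hpimg s j hs]
      obtain ⟨hlt, hlab, -⟩ := hmem j j.2
      have h2 := scanNZ_sound _ _ _ hV (D.sec j) (lt_of_lt_of_le hlt hn)
        (by rw [Nat.eq_of_beq_eq_true hlab]; exact Nat.succ_ne_zero _)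
      rw [Nat.eq_of_beq_eq_true hlab, Nat.add_sub_cancel] at h2
      exact Nat.eq_of_beq_eq_true h2)
    hrel hparent
  rw [hcommon]
  refine ⟨Q1 D.R.n, q1_nondegenerate _, q1_gram _, ⟨?_⟩⟩
  refine e.trans (QuotientGroup.congr _ _ (MulEquiv.subgroupCongr ?_) ?_)
  · rw [hrange]; rfl
  · exact Cfsg.Agent.FischerExist.map_center _

end PData

end Cfsg.Agent.FischerExist
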